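import Mathlib
import Cfsg.Agent.Lib.Helper71.FpfCore
import Cfsg.Agent.Lib.Helper71.FrobKernel
import Cfsg.Agent.S0042

/-!
Frobenius complements and the fixed-point-free ideal of the integral group ring: a Frobenius
complement acts without fixed points on the centre of the (nilpotent) Frobenius kernel, hence
its integral group ring contains a non-zero element killed by all norm elements.
-/

set_option autoImplicit false

namespace Cfsg.Agent.Lib.Helper71

open scoped Pointwise

/-- A Frobenius complement `H` of a finite group `L` acts without fixed points, by conjugation,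
on a nontrivial abelian normal subgroup `Z` of `L` of order prime to `|H|`. -/
theorem exists_abelian_normal_of_frobeniusComplement {L : Type*} [Group L] [Finite L]
    (H : Subgroup L) (hH : Cfsg.IsFrobeniusComplement H) :
    ∃ Z : Subgroup L, Z.Normal ∧ Z ≠ ⊥ ∧ (∀ x ∈ Z, ∀ y ∈ Z, x * y = y * x) ∧
      (Nat.card Z).Coprime (Nat.card H) ∧
      ∀ h ∈ H, h ≠ 1 → ∀ z ∈ Z, h * z * h⁻¹ = z → z = 1 := by
  obtain ⟨N, hNk, hNn, -⟩ := Cfsg.Agent.S0035.result H hH
  have := hNn
  have hnil : Group.IsNilpotent N := Cfsg.Agent.S0042.kernel_nilpotent H hH N hNk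
  have hcardN : Nat.card N = H.index := card_kernel_eq_index hNk.symm
  have hNnt : Nontrivial N := by
    rw [← Finite.one_lt_card_iff_nontrivial, hcardN]
    have h1 : H.index ≠ 1 := fun h => hH.2.1 (Subgroup.index_eq_one.mp h)
    have h0 : H.index ≠ 0 := Subgroup.index_ne_zero_of_finite
    omega
  have hcen : Subgroup.center N ≠ ⊥ := Group.IsNilpotent.center_ne_bot N
  obtain ⟨c, hc1⟩ := (Subgroup.ne_bot_iff_exists_ne_one).mp hcen
  refine ⟨N ⊓ Subgroup.centralizer (N : Set L), ?_, ?_, ?_, ?_, ?_⟩
  · refine ⟨fun z hz l => ?_⟩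
    rw [Subgroup.mem_inf, Subgroup.mem_centralizer_iff] at hz ⊢
    refine ⟨hNn.conj_mem z hz.1 l, ?_⟩
    intro n hn
    have hn' : l⁻¹ * n * l ∈ N := by
      have := hNn.conj_mem n hn l⁻¹
      simpa using this
    have h2 := hz.2 _ hn'
    calc n * (l * z * l⁻¹) = l * ((l⁻¹ * n * l) * z) * l⁻¹ := by group
      _ = l * (z * (l⁻¹ * n * l)) * l⁻¹ := by rw [h2]
      _ = l * z * l⁻¹ * n := by group
  · intro hbot
    have hmem : ((c : N) : L) ∈ N ⊓ Subgroup.centralizer (N : Set L) := by
      rw [Subgroup.mem_inf, Subgroup.mem_centralizer_iff]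
      refine ⟨(c : N).2, ?_⟩
      intro n hn
      have := (Subgroup.mem_center_iff.mp c.2) ⟨n, hn⟩
      exact congrArg Subtype.val this
    rw [hbot, Subgroup.mem_bot] at hmem
    apply hc1
    exact Subtype.ext (Subtype.ext hmem)
  · intro x hx y hy
    rw [Subgroup.mem_inf, Subgroup.mem_centralizer_iff] at hx hy
    exact hy.2 x hx.1
  · have hdvd : Nat.card (N ⊓ Subgroup.centralizer (N : Set L) : Subgroup L) ∣ Nat.card N :=
      Subgroup.card_dvd_of_le inf_le_left
    have hc := coprime_card_complement_kernel hH hNk.symm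
    exact (hc.symm).coprime_dvd_left hdvd
  · intro h hh hh1 z hz hfix
    have hzN : z ∈ N := (Subgroup.mem_inf.mp hz).1
    have hcomm : z * h = h * z := by
      calc z * h = (h * z * h⁻¹) * h := by rw [hfix]
        _ = h * z := by group
    have hzH : z ∈ H := mem_of_commute_of_isFrobeniusComplement hH hh hh1 hcomm
    exact eq_one_of_mem_kernel_of_conj_mem hNk.symm (g := 1) hzN (by simpa using hzH)

/-- **Integral witness for a Frobenius complement.** -/
theorem frob_exists_int_witness {G : Type*} [Group G] [Finite G]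
    (hFC : ∃ (L : Type) (_ : Group L) (_ : Finite L) (H : Subgroup L),
      Cfsg.IsFrobeniusComplement H ∧ Nonempty (G ≃* H)) :
    ∃ F : MonoidAlgebra ℤ G, F ≠ 0 ∧ ∀ a : G, a ≠ 1 → normElt ℤ a * F = 0 := by
  obtain ⟨L, _, _, H, hH, ⟨e⟩⟩ := hFC
  obtain ⟨Z, hZn, hZ1, hZc, hZcop, hZf⟩ := exists_abelian_normal_of_frobeniusComplement H hH
  have := hZn
  have : Nontrivial Z := (Subgroup.nontrivial_iff_ne_bot Z).mpr hZ1
  let φ : G →* MulAut Z := (MulAut.conjNormal (H := Z)).comp (H.subtype.comp e.toMonoidHom)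
  apply exists_int_witness' (V := Z) ?_ φ ?_ ?_
  · intro x y
    exact Subtype.ext (hZc x x.2 y y.2)
  · intro a ha v hv
    have h1 : ((e a : H) : L) * v * ((e a : H) : L)⁻¹ = v := by
      have := congrArg Subtype.val hv
      simpa [φ, MulAut.conjNormal_apply] using this
    have hne : ((e a : H) : L) ≠ 1 := by
      intro h
      apply ha
      apply e.injective
      rw [map_one]
      exact Subtype.ext h
    exact Subtype.ext (hZf (e a) (e a).2 hne v v.2 h1)
  · rw [Nat.card_congr e.toEquiv]
    exact hZcop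

end Cfsg.Agent.Lib.Helper71
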