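import Mathlib

/-!
Maximal subgroups of finite solvable groups have prime power index.
-/

set_option autoImplicit false

namespace Cfsg.Agent.Lib.Helper71

open scoped commutatorElement

variable {G : Type*} [Group G]

/-- second isomorphism theorem, counting form, for a normal `F` and arbitrary `H`. -/
theorem relIndex_eq_relIndex_sup_of_normal_right [Finite G] (H F : Subgroup G)
    [F.Normal] : H.relIndex F = H.relIndex (H ⊔ F) := by
  have e1 : F.relIndex (H ⊔ F) = F.relIndex H := Subgroup.relIndex_sup_right H F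
  have a1 := Subgroup.relIndex_mul_relIndex (⊥ : Subgroup G) F (H ⊔ F) bot_le le_sup_right
  have a2 := Subgroup.relIndex_mul_relIndex (⊥ : Subgroup G) H (H ⊔ F) bot_le le_sup_left
  have a3 := Subgroup.relIndex_mul_relIndex (⊥ : Subgroup G) (H ⊓ F) H bot_le inf_le_left
  have a4 := Subgroup.relIndex_mul_relIndex (⊥ : Subgroup G) (H ⊓ F) F bot_le inf_le_right
  rw [Subgroup.inf_relIndex_right] at a4
  rw [inf_comm, Subgroup.inf_relIndex_right] at a3
  rw [e1] at a1
  have hpos : 0 < (⊥ : Subgroup G).relIndex (F ⊓ H) := by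
    rw [Subgroup.relIndex_bot_left]; exact Nat.card_pos
  have hpos2 : 0 < F.relIndex H :=
    Nat.pos_of_ne_zero (Subgroup.index_ne_zero_of_finite (H := F.subgroupOf H))
  rw [inf_comm] at a4
  have : (⊥ : Subgroup G).relIndex (F ⊓ H) * F.relIndex H * H.relIndex F
      = (⊥ : Subgroup G).relIndex (F ⊓ H) * F.relIndex H * H.relIndex (H ⊔ F) := by
    calc (⊥ : Subgroup G).relIndex (F ⊓ H) * F.relIndex H * H.relIndex F
        = ((⊥ : Subgroup G).relIndex (F ⊓ H) * H.relIndex F) * F.relIndex H := by ring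
      _ = (⊥ : Subgroup G).relIndex F * F.relIndex H := by rw [a4]
      _ = (⊥ : Subgroup G).relIndex (H ⊔ F) := a1
      _ = (⊥ : Subgroup G).relIndex H * H.relIndex (H ⊔ F) := a2.symm
      _ = (⊥ : Subgroup G).relIndex (F ⊓ H) * F.relIndex H * H.relIndex (H ⊔ F) := by rw [a3]
  exact Nat.eq_of_mul_eq_mul_left (Nat.mul_pos hpos hpos2) this

theorem conj_eq_commutator_mul (a b : G) : a * b * a⁻¹ = ⁅a, b⁆ * b := by
  simp [commutatorElement_def]

/-- A maximal subgroup of a finite solvable group has prime power index. -/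
theorem index_eq_prime_pow_of_isCoatom [Finite G] [Group.IsSolvable G] (M : Subgroup G)
    (hM : IsCoatom M) : ∃ p k : ℕ, p.Prime ∧ M.index = p ^ k := by
  classical
  -- a minimal normal subgroup not contained in M
  have hne : {N : Subgroup G | N.Normal ∧ ¬ N ≤ M}.Nonempty :=
    ⟨⊤, Subgroup.normal_top, fun h => hM.1 (top_le_iff.mp h)⟩
  obtain ⟨N, ⟨hNn, hNM⟩, hmin⟩ := (Set.toFinite {N : Subgroup G | N.Normal ∧ ¬ N ≤ M}).exists_minimal hne
  have hmin' : ∀ K : Subgroup G, K.Normal → K ≤ N → ¬ K ≤ M → K = N := fun K hK hKN hKM =>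
    le_antisymm hKN (hmin ⟨hK, hKM⟩ hKN)
  have hsup : N ⊔ M = ⊤ := by
    apply hM.2
    exact lt_of_le_of_ne le_sup_right (fun h => hNM (by rw [h]; exact le_sup_left))
  have hNbot : N ≠ ⊥ := fun h => hNM (h ▸ bot_le)
  -- the derived subgroup of N lies in M
  have hcomm : ⁅N, N⁆ ≤ M := by
    by_contra hc
    have h1 := hmin' ⁅N, N⁆ inferInstance (Subgroup.commutator_le_self N) hc
    exact (Group.IsSolvable.commutator_lt_of_ne_bot hNbot).ne h1
  -- D = N ⊓ M is normal in G
  have hconjN : ∀ n ∈ N, ∀ d ∈ N ⊓ M, n * d * n⁻¹ ∈ N ⊓ M := by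
    intro n hn d hd
    refine ⟨N.mul_mem (N.mul_mem hn hd.1) (N.inv_mem hn), ?_⟩
    rw [conj_eq_commutator_mul]
    exact M.mul_mem (hcomm (Subgroup.commutator_mem_commutator hn hd.1)) hd.2
  have hD : (N ⊓ M).Normal := by
    constructor
    intro d hd g
    have hg : g ∈ N ⊔ M := by rw [hsup]; trivial
    rw [← SetLike.mem_coe, Subgroup.normal_mul] at hg
    obtain ⟨n, hn, m, hm, rfl⟩ := hg
    have h1 : m * d * m⁻¹ ∈ N ⊓ M :=
      ⟨hNn.conj_mem d hd.1 m, M.mul_mem (M.mul_mem hm hd.2) (M.inv_mem hm)⟩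
    have h2 := hconjN n hn _ h1
    have e : n * m * d * (n * m)⁻¹ = n * (m * d * m⁻¹) * n⁻¹ := by group
    rw [e]; exact h2
  -- index of M is the relative index in N
  have hidx : M.index = M.relIndex N := by
    rw [relIndex_eq_relIndex_sup_of_normal_right M N, sup_comm, hsup, Subgroup.relIndex_top_right]
  have hidx1 : M.relIndex N ≠ 1 := by
    intro h
    exact hNM (Subgroup.relIndex_eq_one.mp h)
  obtain ⟨p, hp, hpd⟩ := Nat.exists_prime_and_dvd hidx1
  have : Fact p.Prime := ⟨hp⟩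
  obtain ⟨P⟩ : Nonempty (Sylow p N) := inferInstance
  set P' : Subgroup G := (P : Subgroup N).map N.subtype with hP'
  have hP'N : P' ≤ N := Subgroup.map_subtype_le _
  have hfrat : Subgroup.normalizer (P' : Set G) ⊔ N = ⊤ := Sylow.normalizer_sup_eq_top P
  -- P' ⊔ D is normal in G
  have hPD : (P' ⊔ (N ⊓ M)).Normal := by
    constructor
    intro y hy g
    rw [← SetLike.mem_coe, Subgroup.mul_normal] at hy
    obtain ⟨x, hx, d, hd, rfl⟩ := hy
    have hg : g ∈ Subgroup.normalizer (P' : Set G) ⊔ N := by rw [hfrat]; trivial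
    rw [← SetLike.mem_coe, Subgroup.mul_normal] at hg
    obtain ⟨c, hc, n, hn, rfl⟩ := hg
    have e : c * n * (x * d) * (c * n)⁻¹ =
        (c * ⁅n, x⁆ * c⁻¹) * (c * x * c⁻¹) * (c * n * d * (c * n)⁻¹) := by
      simp only [commutatorElement_def]; group
    rw [e]
    have h1 : c * ⁅n, x⁆ * c⁻¹ ∈ N ⊓ M := by
      apply hD.conj_mem
      exact ⟨N.mul_mem (hNn.conj_mem x (hP'N hx) n) (N.inv_mem (hP'N hx)),
        hcomm (Subgroup.commutator_mem_commutator hn (hP'N hx))⟩
    have h2 : c * x * c⁻¹ ∈ P' := (Subgroup.mem_normalizer_iff.mp hc x).mp hx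
    have h3 : c * n * d * (c * n)⁻¹ ∈ N ⊓ M := hD.conj_mem d hd _
    exact Subgroup.mul_mem _ (Subgroup.mul_mem _ (le_sup_right (a := P') h1)
      (le_sup_left (b := N ⊓ M) h2)) (le_sup_right (a := P') h3)
  -- P' ⊔ D is not contained in M
  have hPDM : ¬ P' ⊔ (N ⊓ M) ≤ M := by
    intro h
    have h1 : P' ≤ M := le_trans le_sup_left h
    have h2 : M.relIndex N ∣ P'.relIndex N := Subgroup.relIndex_dvd_of_le_left N h1
    have h3 : P'.relIndex N = (P : Subgroup N).index := by
      rw [Subgroup.relIndex, hP', ← Subgroup.comap_subtype,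
        Subgroup.comap_map_eq_self_of_injective N.subtype_injective]
    rw [h3] at h2
    exact P.not_dvd_index (hpd.trans h2)
  have hPDN : P' ⊔ (N ⊓ M) = N := hmin' _ hPD (sup_le hP'N inf_le_left) hPDM
  -- compute the index
  have hidx2 : M.relIndex N = (N ⊓ M).relIndex P' := by
    have h1 : (N ⊓ M).relIndex N = M.relIndex N := by
      rw [inf_comm, Subgroup.inf_relIndex_right]
    rw [← h1]
    have h2 := Subgroup.relIndex_sup_right P' (N ⊓ M)
    rw [hPDN] at h2
    exact h2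
  have hPg : IsPGroup p P' := P.2.map N.subtype
  obtain ⟨k, hk⟩ := hPg.index ((N ⊓ M).subgroupOf P')
  exact ⟨p, k, hp, by rw [hidx, hidx2]; exact hk⟩

end Cfsg.Agent.Lib.Helper71
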