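import Mathlib
import Cfsg.Prelude.Def_Solvable
import Cfsg.Agent.Lib.Helper71.Frob
import Cfsg.Agent.Lib.Helper71.FrobKernel
import Cfsg.Agent.S4262

/-!
Abstract tools for groups with "maximal-type" centralizers:

* `frobenius_plain`: a normal subgroup `K` with a subgroup `Q` acting fixed-point-freely and
  `X = K Q` gives a Frobenius group with complement `Q` and kernel `K`;
* `false_of_center_sylow`: a counting contradiction when every non-identity element has prime
  order and is central in a non-abelian Sylow subgroup;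
* `MaxCent`: a perfect centreless finite group whose centralizers are labelled by a function `f`
  with the formal properties of maximal centralizers cannot exist (`MaxCent.false`).
-/

set_option autoImplicit false

namespace Cfsg.Agent.Lib.Helper71

variable {X : Type*} [Group X]

/-- a Frobenius group from a normal subgroup `K` and a subgroup `Q` acting fixed-point-freely -/
theorem frobenius_plain [Finite X] (K Q : Subgroup X) [K.Normal]
    (hK : K ≠ ⊥) (hQ : Q ≠ ⊥)
    (hmul : ∀ g : X, ∃ k ∈ K, ∃ h ∈ Q, g = k * h)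
    (hfpf : ∀ h ∈ Q, h ≠ 1 → ∀ k ∈ K, k * h = h * k → k = 1) :
    Cfsg.IsFrobeniusComplement Q ∧ Cfsg.frobeniusKernel Q = (K : Set X) := by
  have hKQ : ∀ k ∈ K, k ∈ Q → k = 1 := by
    intro k hk hkQ
    by_contra hk1
    exact hk1 (hfpf k hkQ hk1 k hk rfl)
  have hsurj : ∀ h ∈ Q, h ≠ 1 → ∀ k ∈ K, ∃ k₁ ∈ K, k = k₁⁻¹ * h * k₁ * h⁻¹ := by
    intro h hh hnz k hk
    let ψ : K → K := fun k₁ => ⟨(k₁ : X)⁻¹ * h * k₁ * h⁻¹, by
      have e : (k₁ : X)⁻¹ * h * k₁ * h⁻¹ = (k₁ : X)⁻¹ * (h * k₁ * h⁻¹) := by group
      rw [e]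
      exact K.mul_mem (K.inv_mem k₁.2) (Subgroup.Normal.conj_mem inferInstance _ k₁.2 h)⟩
    have hinj : Function.Injective ψ := by
      intro a b hab
      have h1 : (a : X)⁻¹ * h * a * h⁻¹ = (b : X)⁻¹ * h * b * h⁻¹ := congrArg Subtype.val hab
      have h2 : (b : X) * (a : X)⁻¹ * h = h * ((b : X) * (a : X)⁻¹) := by
        calc (b : X) * (a : X)⁻¹ * h = b * ((a : X)⁻¹ * h * a * h⁻¹) * h * (a : X)⁻¹ := by group
          _ = b * ((b : X)⁻¹ * h * b * h⁻¹) * h * (a : X)⁻¹ := by rw [h1]
          _ = h * ((b : X) * (a : X)⁻¹) := by group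
      have h3 := hfpf h hh hnz _ (K.mul_mem b.2 (K.inv_mem a.2)) h2
      exact Subtype.ext (mul_inv_eq_one.mp h3).symm
    obtain ⟨k₁, hk₁⟩ := Finite.surjective_of_injective hinj ⟨k, hk⟩
    exact ⟨k₁, k₁.2, (congrArg Subtype.val hk₁).symm⟩
  constructor
  · rw [isFrobeniusComplement_iff]
    refine ⟨hQ, ?_, ?_⟩
    · intro htop
      apply hK
      rw [Subgroup.eq_bot_iff_forall]
      intro k hk
      exact hKQ k hk (by rw [htop]; trivial)
    · intro g hg h hh hconj
      by_contra hnz
      apply hg
      obtain ⟨k, hk, c, hc, rfl⟩ := hmul g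
      have h1 : k⁻¹ * h * k ∈ Q := by
        have e : k⁻¹ * h * k = c * ((k * c)⁻¹ * h * (k * c)) * c⁻¹ := by group
        rw [e]; exact Q.mul_mem (Q.mul_mem hc hconj) (Q.inv_mem hc)
      have h2 : h⁻¹ * (k⁻¹ * h * k) = 1 := by
        apply hKQ
        · have e : h⁻¹ * (k⁻¹ * h * k) = (h⁻¹ * k⁻¹ * h) * k := by group
          rw [e]
          have := Subgroup.Normal.conj_mem (inferInstance : K.Normal) _ (K.inv_mem hk) h⁻¹
          rw [inv_inv] at this
          exact K.mul_mem this hk
        · exact Q.mul_mem (Q.inv_mem hh) h1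
      have h3 : k * h = h * k := by
        have h4 : h = k⁻¹ * h * k := eq_of_inv_mul_eq_one h2
        calc k * h = k * (k⁻¹ * h * k) := by rw [← h4]
          _ = h * k := by group
      have := hfpf h hh hnz k hk h3
      subst this
      simpa using hc
  · ext x
    rw [mem_frobeniusKernel_iff]
    constructor
    · intro hx
      obtain ⟨k, hk, h, hh, rfl⟩ := hmul x
      by_cases hz : h = 1
      · subst hz; simpa using hk
      · obtain ⟨k₁, hk₁, hkk⟩ := hsurj h hh hz k hk
        have e : k * h = k₁⁻¹ * h * k₁ := by rw [hkk]; group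
        exfalso
        rcases hx with hx | hx
        · apply hz
          have e2 : h = k⁻¹ := eq_inv_of_mul_eq_one_right hx
          exact hKQ h (e2 ▸ K.inv_mem hk) hh
        · apply hx k₁⁻¹
          rw [e]
          have e2 : k₁⁻¹⁻¹ * (k₁⁻¹ * h * k₁) * k₁⁻¹ = h := by group
          rw [e2]; exact hh
    · intro hk
      by_cases hk1 : x = 1
      · left; exact hk1
      · right
        intro g hc
        apply hk1
        have h1 := hKQ _ (Subgroup.Normal.conj_mem (inferInstance : K.Normal) _ hk g⁻¹)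
          (by rw [inv_inv]; exact hc)
        rw [inv_inv] at h1
        calc x = g * (g⁻¹ * x * g) * g⁻¹ := by group
          _ = 1 := by rw [h1]; group

/-- counting: not every non-identity element can have prime order and be central in a
non-abelian Sylow subgroup -/
theorem false_of_center_sylow [Finite X] [Nontrivial X]
    (hprime : ∀ x : X, x ≠ 1 → (orderOf x).Prime)
    (hsyl : ∀ x : X, x ≠ 1 → ∀ (p : ℕ) [Fact p.Prime], orderOf x = p →
      ∃ Q : Sylow p X, x ∈ (Q : Subgroup X) ∧ (∀ q ∈ (Q : Subgroup X), q * x = x * q) ∧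
        ¬ (∀ a ∈ (Q : Subgroup X), ∀ b ∈ (Q : Subgroup X), a * b = b * a)) : False := by
  classical
  have : Fintype X := Fintype.ofFinite X
  obtain ⟨n, hn⟩ : ∃ n, n = Nat.card X := ⟨_, rfl⟩
  have hn1 : 1 < n := by rw [hn]; exact Finite.one_lt_card
  have hmaps : ∀ x ∈ (Finset.univ.erase (1 : X)), orderOf x ∈ n.primeFactors := by
    intro x hx
    rw [Finset.mem_erase] at hx
    rw [Nat.mem_primeFactors]
    exact ⟨hprime x hx.1, by rw [hn]; exact orderOf_dvd_natCard x, by omega⟩
  have hsum : n - 1 = ∑ p ∈ n.primeFactors,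
      (Finset.filter (fun x => orderOf x = p) (Finset.univ.erase (1 : X))).card := by
    rw [← Finset.card_eq_sum_card_fiberwise (fun x hx => hmaps x hx),
      Finset.card_erase_of_mem (Finset.mem_univ _), Finset.card_univ, hn,
      Nat.card_eq_fintype_card]
  have hbound : ∀ p ∈ n.primeFactors,
      (Finset.filter (fun x => orderOf x = p) (Finset.univ.erase (1 : X))).card * p ^ 2 ≤ n - 1 := by
    intro p hp
    have hpp : p.Prime := Nat.prime_of_mem_primeFactors hp
    have : Fact p.Prime := ⟨hpp⟩
    have : Fintype (Sylow p X) := Fintype.ofFinite _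
    obtain ⟨E, hE⟩ : ∃ E, E = Finset.filter (fun x => orderOf x = p) (Finset.univ.erase (1 : X)) :=
      ⟨_, rfl⟩
    rw [← hE]
    have hEmem : ∀ x, x ∈ E ↔ x ≠ 1 ∧ orderOf x = p := by
      intro x
      rw [hE, Finset.mem_filter, Finset.mem_erase]
      simp
    let T : Sylow p X → Finset X := fun Q =>
      Finset.filter (fun x => x ∈ (Q : Subgroup X) ∧ (∀ q ∈ (Q : Subgroup X), q * x = x * q) ∧
        ¬ (∀ a ∈ (Q : Subgroup X), ∀ b ∈ (Q : Subgroup X), a * b = b * a)) E
    have hsub : E ⊆ Finset.univ.biUnion T := by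
      intro x hx
      obtain ⟨hx1, hxp⟩ := (hEmem x).mp hx
      obtain ⟨Q, hQ⟩ := hsyl x hx1 p hxp
      rw [Finset.mem_biUnion]
      exact ⟨Q, Finset.mem_univ _, by rw [Finset.mem_filter]; exact ⟨hx, hQ⟩⟩
    have hcardE : E.card ≤ ∑ Q : Sylow p X, (T Q).card :=
      (Finset.card_le_card hsub).trans Finset.card_biUnion_le
    obtain ⟨a, ha⟩ : ∃ a, a = (Nat.card X).factorization p := ⟨_, rfl⟩
    have hTQ : ∀ Q : Sylow p X, (T Q).card * p ^ 2 < p ^ a := by
      intro Q
      have hQcard : Nat.card (Q : Subgroup X) = p ^ a := by rw [ha]; exact Q.card_eq_multiplicity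
      by_cases hemp : T Q = ∅
      · rw [hemp, Finset.card_empty, zero_mul]; exact pow_pos hpp.pos a
      · obtain ⟨x₀, hx₀⟩ := Finset.nonempty_iff_ne_empty.mpr hemp
        rw [Finset.mem_filter] at hx₀
        obtain ⟨-, -, -, hQna'⟩ := hx₀
        have hQna : ¬ ∀ a b : (Q : Subgroup X), a * b = b * a := by
          intro hab
          apply hQna'
          intro a ha b hb
          exact congrArg Subtype.val (hab ⟨a, ha⟩ ⟨b, hb⟩)
        have hc := Cfsg.Agent.S4262.card_center_mul_sq_le p Q.isPGroup' hQna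
        have hle : (T Q).card + 1 ≤ Nat.card (Subgroup.center (Q : Subgroup X)) := by
          have h1 : (insert 1 (T Q)).card = (T Q).card + 1 := by
            apply Finset.card_insert_of_notMem
            intro h
            rw [Finset.mem_filter] at h
            exact ((hEmem 1).mp h.1).1 rfl
          rw [← h1, ← Subgroup.card_map_of_injective (K := Subgroup.center (Q : Subgroup X))
            (Subgroup.subtype_injective (Q : Subgroup X))]
          have hcoe : Nat.card ↥(Subgroup.map (Q : Subgroup X).subtype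
              (Subgroup.center (Q : Subgroup X))) =
              ((Subgroup.map (Q : Subgroup X).subtype
              (Subgroup.center (Q : Subgroup X)) : Subgroup X) : Set X).ncard := rfl
          rw [hcoe, ← Set.ncard_coe_finset]
          apply Set.ncard_le_ncard _ (Set.toFinite _)
          intro x hx
          rw [Finset.mem_coe, Finset.mem_insert] at hx
          rcases hx with rfl | hx
          · exact Subgroup.one_mem _
          · rw [Finset.mem_filter] at hx
            have hxQ : x ∈ (Q : Subgroup X) := hx.2.1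
            refine ⟨⟨x, hxQ⟩, ?_, rfl⟩
            rw [SetLike.mem_coe, Subgroup.mem_center_iff]
            intro q
            apply Subtype.ext
            exact hx.2.2.1 q q.2
        calc (T Q).card * p ^ 2 < ((T Q).card + 1) * p ^ 2 := by
              have := hpp.pos
              nlinarith [pow_pos this 2]
          _ ≤ Nat.card (Subgroup.center (Q : Subgroup X)) * p ^ 2 := Nat.mul_le_mul_right _ hle
          _ ≤ Nat.card (Q : Subgroup X) := hc
          _ = p ^ a := hQcard
    have hnp : Nat.card (Sylow p X) * p ^ a ≤ n := by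
      let Q0 : Sylow p X := default
      have h1 := Q0.card_dvd_index
      have h2 := Subgroup.index_mul_card (Q0 : Subgroup X)
      rw [Q0.card_eq_multiplicity, ← ha, ← hn] at h2
      have h3 : Nat.card (Sylow p X) ≤ (Q0 : Subgroup X).index :=
        Nat.le_of_dvd (Nat.pos_of_ne_zero Subgroup.index_ne_zero_of_finite) h1
      calc Nat.card (Sylow p X) * p ^ a ≤ (Q0 : Subgroup X).index * p ^ a :=
            Nat.mul_le_mul_right _ h3
        _ = n := h2
    have hlt : E.card * p ^ 2 < n := by
      calc E.card * p ^ 2 ≤ (∑ Q : Sylow p X, (T Q).card) * p ^ 2 := Nat.mul_le_mul_right _ hcardE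
        _ = ∑ Q : Sylow p X, (T Q).card * p ^ 2 := Finset.sum_mul _ _ _
        _ < ∑ Q : Sylow p X, p ^ a :=
            Finset.sum_lt_sum_of_nonempty Finset.univ_nonempty (fun Q _ => hTQ Q)
        _ = Nat.card (Sylow p X) * p ^ a := by
            rw [Finset.sum_const, Finset.card_univ, smul_eq_mul, Nat.card_eq_fintype_card]
        _ ≤ n := hnp
    omega
  have hq1 : ((n - 1 : ℕ) : ℚ) ≤ ((n - 1 : ℕ) : ℚ) * ∑ p ∈ n.primeFactors, (1 : ℚ) / (p : ℚ) ^ 2 := by
    rw [Finset.mul_sum]
    nth_rewrite 1 [hsum]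
    push_cast
    apply Finset.sum_le_sum
    intro p hp
    have hpp : p.Prime := Nat.prime_of_mem_primeFactors hp
    have hp0 : (0 : ℚ) < (p : ℚ) ^ 2 := by
      have : (0 : ℚ) < p := by exact_mod_cast hpp.pos
      positivity
    have hb := hbound p hp
    have hb' : ((Finset.filter (fun x => orderOf x = p) (Finset.univ.erase (1 : X))).card : ℚ) *
        (p : ℚ) ^ 2 ≤ ((n - 1 : ℕ) : ℚ) := by exact_mod_cast hb
    rw [mul_one_div, le_div_iff₀ hp0]
    exact hb'
  have hq2 : ∑ p ∈ n.primeFactors, (1 : ℚ) / (p : ℚ) ^ 2 ≤ 1 - 1 / (n : ℚ) := by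
    refine le_trans ?_ (Cfsg.Agent.S4262.sum_inv_sq_le n (by omega))
    apply Finset.sum_le_sum_of_subset_of_nonneg
    · intro p hp
      have hpp : p.Prime := Nat.prime_of_mem_primeFactors hp
      rw [Finset.mem_Icc]
      exact ⟨hpp.two_le, Nat.le_of_dvd (by omega) (Nat.dvd_of_mem_primeFactors hp)⟩
    · intro k _ _
      positivity
  have hn0 : (0 : ℚ) < ((n - 1 : ℕ) : ℚ) := by
    have : 0 < n - 1 := by omega
    exact_mod_cast this
  have hnq : (0 : ℚ) < 1 / (n : ℚ) := by
    have : (0 : ℚ) < n := by exact_mod_cast (by omega : 0 < n)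
    positivity
  nlinarith

/-- formal properties of a "centralizer label" `f` on a group in which centralizers of
non-identity elements behave like maximal subgroups of an ambient group -/
structure MaxCent {α : Type*} (f : X → α) : Prop where
  pow : ∀ (x : X) (k : ℕ), x ^ k ≠ 1 → f (x ^ k) = f x
  lemA : ∀ x y : X, x ≠ 1 → y ≠ 1 → x * y = y * x → f x ≠ f y →
    orderOf x = orderOf y ∧ (orderOf x).Prime
  comm : ∀ x y : X, x ≠ 1 → y ≠ 1 → f x = f y → ∀ w : X, w * x = x * w → w * y = y * w
  selfnorm : ∀ x : X, x ≠ 1 →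
    Subgroup.normalizer ((Subgroup.centralizer ({x} : Set X) : Subgroup X) : Set X) ≤
      Subgroup.centralizer ({x} : Set X)
  conj : ∀ x : X, x ≠ 1 → ∀ n : X, f (n⁻¹ * x * n) = f x → n * x = x * n
  perfect : _root_.commutator X = ⊤
  center : Subgroup.center X = ⊥

namespace MaxCent

variable {α : Type*} {f : X → α}

theorem typeII (h : MaxCent f) {x y : X} (hx : x ≠ 1) (hy : y ≠ 1) (hxy : y * x = x * y)
    (hne : f y ≠ f x) :
    (orderOf x).Prime ∧ ∀ w : X, w ≠ 1 → w * x = x * w → orderOf w = orderOf x := by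
  have h1 := h.lemA x y hx hy hxy.symm (Ne.symm hne)
  refine ⟨h1.2, ?_⟩
  intro w hw hwx
  by_cases hfw : f w = f x
  · have hyw : y * w = w * y := h.comm x w hx hw hfw.symm y hxy
    have h2 := h.lemA w y hw hy hyw.symm (by rw [hfw]; exact Ne.symm hne)
    rw [h2.1, h1.1]
  · exact (h.lemA w x hw hx hwx hfw).1

/-- a Sylow subgroup with a non-identity central element is non-abelian -/
theorem sylow_center [Finite X] (h : MaxCent f) (p : ℕ) [Fact p.Prime] (P : Sylow p X)
    {z : X} (hzP : z ∈ (P : Subgroup X)) (hz1 : z ≠ 1)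
    (hzc : ∀ q ∈ (P : Subgroup X), q * z = z * q) :
    ¬ ∀ a ∈ (P : Subgroup X), ∀ b ∈ (P : Subgroup X), a * b = b * a := by
  intro hab
  have hP : Subgroup.normalizer ((P : Subgroup X) : Set X) ≤
      Subgroup.centralizer ((P : Subgroup X) : Set X) := by
    intro n hn
    by_cases hI : ∀ y : X, y ≠ 1 → y * z = z * y → f y = f z
    · -- type I
      have hw : n⁻¹ * z * n ∈ (P : Subgroup X) := by
        have h1 := (Subgroup.mem_normalizer_iff.mp (Subgroup.inv_mem _ hn) z).mp hzP
        rwa [inv_inv] at h1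
      have hw1 : n⁻¹ * z * n ≠ 1 := by
        intro e
        apply hz1
        have e2 : z = n * (n⁻¹ * z * n) * n⁻¹ := by group
        rw [e2, e]; group
      have hfw := hI _ hw1 (hzc _ hw)
      have hnz : n * z = z * n := h.conj z hz1 n hfw
      rw [Subgroup.mem_centralizer_iff]
      intro q hq
      by_cases hq1 : q = 1
      · rw [hq1, one_mul, mul_one]
      · have hfq := hI q hq1 (hzc q hq)
        exact (h.comm z q hz1 hq1 hfq.symm n hnz).symm
    · -- type II
      push Not at hI
      obtain ⟨y, hy1, hyz, hne⟩ := hI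
      obtain ⟨hzp, hall⟩ := h.typeII hz1 hy1 hyz hne
      have hzord : orderOf z = p := by
        obtain ⟨k, hk⟩ := P.isPGroup' ⟨z, hzP⟩
        have h1 : z ^ p ^ k = 1 := congrArg Subtype.val hk
        have h2 := orderOf_dvd_of_pow_eq_one h1
        exact (Nat.prime_dvd_prime_iff_eq hzp (Fact.out : p.Prime)).mp (hzp.dvd_of_dvd_pow h2)
      have hD : IsPGroup p (Subgroup.centralizer ({z} : Set X)) := by
        intro g
        refine ⟨1, ?_⟩
        rw [pow_one]
        apply Subtype.ext
        rw [Subgroup.coe_pow, Subgroup.coe_one]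
        by_cases hg1 : (g : X) = 1
        · rw [hg1, one_pow]
        · have hg := g.2
          rw [Subgroup.mem_centralizer_singleton_iff] at hg
          rw [← hzord, ← hall g hg1 hg]
          exact pow_orderOf_eq_one _
      have hPD : (P : Subgroup X) ≤ Subgroup.centralizer ({z} : Set X) := by
        intro q hq
        rw [Subgroup.mem_centralizer_singleton_iff]
        exact hzc q hq
      have hDP := P.is_maximal' hD hPD
      have hnP : n ∈ (P : Subgroup X) := by
        rw [← hDP]
        apply h.selfnorm z hz1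
        rw [hDP]
        exact hn
      rw [Subgroup.mem_centralizer_iff]
      intro q hq
      exact hab q hq n hnP
  have hcompl := MonoidHom.ker_transferSylow_isComplement' P hP
  have hker : (MonoidHom.transferSylow P hP).ker = ⊤ := by
    rw [eq_top_iff, ← h.perfect, _root_.commutator_def, Subgroup.commutator_le]
    intro g₁ _ g₂ _
    rw [MonoidHom.mem_ker, map_commutatorElement, commutatorElement_eq_one_iff_commute]
    apply Subtype.ext
    exact hab _ (MonoidHom.transferSylow P hP g₁).2 _ (MonoidHom.transferSylow P hP g₂).2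
  rw [hker, Subgroup.isComplement'_top_left] at hcompl
  rw [hcompl, Subgroup.mem_bot] at hzP
  exact hz1 hzP

/-- every non-identity element commutes with an element of a different label -/
theorem exists_other [Finite X] (h : MaxCent f) {x : X} (hx : x ≠ 1) :
    ∃ y : X, y ≠ 1 ∧ y * x = x * y ∧ f y ≠ f x := by
  by_contra hcon
  push Not at hcon
  have hox : orderOf x ≠ 1 := by rwa [Ne, orderOf_eq_one_iff]
  obtain ⟨r, hr, hrd⟩ := Nat.exists_prime_and_dvd hox
  have : Fact r.Prime := ⟨hr⟩
  obtain ⟨a, ha⟩ : ∃ a, a = x ^ (orderOf x / r) := ⟨_, rfl⟩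
  have hao : orderOf a = r := by
    rw [ha]; exact orderOf_pow_orderOf_div (orderOf_pos x).ne' hrd
  have ha1 : a ≠ 1 := by
    intro e
    rw [e, orderOf_one] at hao
    exact hr.one_lt.ne hao
  have hfa : f a = f x := by rw [ha]; exact h.pow x _ (by rw [← ha]; exact ha1)
  have hPG : IsPGroup r (Subgroup.zpowers a) :=
    IsPGroup.of_card (n := 1) (by rw [Nat.card_zpowers, hao, pow_one])
  obtain ⟨P, hP⟩ := hPG.exists_le_sylow
  have haP : a ∈ (P : Subgroup X) := hP (Subgroup.mem_zpowers a)
  have : Nontrivial (P : Subgroup X) := ⟨⟨⟨a, haP⟩, 1, fun e => ha1 (congrArg Subtype.val e)⟩⟩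
  have hcn := P.isPGroup'.center_nontrivial
  obtain ⟨z', hz'⟩ := exists_ne (1 : Subgroup.center (P : Subgroup X))
  obtain ⟨z, hz⟩ : ∃ z : X, z = ((z' : (P : Subgroup X)) : X) := ⟨_, rfl⟩
  have hzP : z ∈ (P : Subgroup X) := by rw [hz]; exact (z' : (P : Subgroup X)).2
  have hz1 : z ≠ 1 := by
    intro e
    apply hz'
    apply Subtype.ext
    apply Subtype.ext
    rw [← hz, e]; rfl
  have hzc : ∀ q ∈ (P : Subgroup X), q * z = z * q := by
    intro q hq
    have h1 := Subgroup.mem_center_iff.mp z'.2 ⟨q, hq⟩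
    have h2 := congrArg Subtype.val h1
    rw [hz]
    exact h2
  have hza : z * a = a * z := (hzc a haP).symm
  have hzx : z * x = x * z := h.comm a x ha1 hx hfa z hza
  have hfz : f z = f x := hcon z hz1 hzx
  apply h.sylow_center r P hzP hz1 hzc
  intro q₁ hq₁ q₂ hq₂
  by_cases h1 : q₁ = 1
  · rw [h1, one_mul, mul_one]
  have hq₁x : q₁ * x = x * q₁ := h.comm z x hz1 hx hfz q₁ (hzc q₁ hq₁)
  have hq₂x : q₂ * x = x * q₂ := h.comm z x hz1 hx hfz q₂ (hzc q₂ hq₂)
  have hf1 : f q₁ = f x := hcon q₁ h1 hq₁x
  exact (h.comm x q₁ hx h1 hf1.symm q₂ hq₂x).symm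

/-- no finite nontrivial group carries a `MaxCent` label -/
theorem false [Finite X] [Nontrivial X] (h : MaxCent f) : False := by
  apply false_of_center_sylow (X := X)
  · intro x hx
    obtain ⟨y, hy, hyx, hne⟩ := h.exists_other hx
    exact (h.typeII hx hy hyx hne).1
  · intro x hx p _ hxp
    obtain ⟨y, hy, hyx, hne⟩ := h.exists_other hx
    have h2 := (h.typeII hx hy hyx hne).2
    obtain ⟨D, hDdef⟩ : ∃ D, D = Subgroup.centralizer ({x} : Set X) := ⟨_, rfl⟩
    have hD : IsPGroup p D := by
      intro g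
      refine ⟨1, ?_⟩
      rw [pow_one]
      apply Subtype.ext
      rw [Subgroup.coe_pow, Subgroup.coe_one]
      by_cases hg1 : (g : X) = 1
      · rw [hg1, one_pow]
      · have hg : (g : X) ∈ Subgroup.centralizer ({x} : Set X) := by rw [← hDdef]; exact g.2
        rw [Subgroup.mem_centralizer_singleton_iff] at hg
        rw [← hxp, ← h2 g hg1 hg]
        exact pow_orderOf_eq_one _
    obtain ⟨k, hk⟩ := IsPGroup.iff_card.mp hD
    have hmod := Sylow.card_quotient_normalizer_modEq_card_quotient hk
    have hnorm : Subgroup.normalizer (D : Set X) = D := by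
      apply le_antisymm
      · rw [hDdef]; exact h.selfnorm x hx
      · exact Subgroup.le_normalizer
    have hone : Nat.card (↥(Subgroup.normalizer (D : Set X)) ⧸
        Subgroup.comap (Subgroup.normalizer (D : Set X)).subtype D) = 1 := by
      have : Subgroup.comap (Subgroup.normalizer (D : Set X)).subtype D = ⊤ := by
        rw [eq_top_iff]
        intro g _
        rw [Subgroup.mem_comap]
        exact hnorm.le g.2
      rw [this, ← Subgroup.index_eq_card, Subgroup.index_top]
    rw [hone] at hmod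
    have hndvd : ¬ p ∣ D.index := by
      intro hdvd
      rw [Subgroup.index_eq_card] at hdvd
      have h3 := (Nat.modEq_zero_iff_dvd.mpr hdvd)
      have h4 := hmod.trans h3
      have hp := (Fact.out : p.Prime)
      have h5 : p ∣ 1 := (Nat.modEq_zero_iff_dvd.mp h4)
      exact hp.one_lt.ne' (Nat.dvd_one.mp h5)
    obtain ⟨Q, hQ⟩ : ∃ Q : Sylow p X, (Q : Subgroup X) = D := ⟨hD.toSylow hndvd, rfl⟩
    have hxQ : x ∈ (Q : Subgroup X) := by
      rw [hQ, hDdef, Subgroup.mem_centralizer_singleton_iff]
    have hxc : ∀ q ∈ (Q : Subgroup X), q * x = x * q := by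
      intro q hq
      rw [hQ, hDdef, Subgroup.mem_centralizer_singleton_iff] at hq
      exact hq
    exact ⟨Q, hxQ, hxc, h.sylow_center p Q hxQ hx hxc⟩

end MaxCent

end Cfsg.Agent.Lib.Helper71
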